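import Groth.Agent.H06QR.Regular
import Groth.Agent.H24Def.Hartogs
import Groth.Agent.H8Props.HartogsTwo
import Mathlib.RingTheory.KrullDimension.Regular

/-!
Depth two for quotients by powers of an ideal generated by a regular sequence with normal quotient.
-/

set_option autoImplicit false
set_option linter.style.haveILetI false

universe u

open RingTheory.Sequence Pointwise

namespace Groth.Agent.H06LefSec

/-- An element regular modulo a quasi-regular ideal is regular modulo all its powers. -/
theorem mem_pow_of_mul_mem {R : Type u} [CommRing R] {r : ℕ} (f : Fin r → R) (hf : CAlgX.IsQuasiRegular f)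
    (a : R) (ha : ∀ w, a * w ∈ Ideal.span (Set.range f) → w ∈ Ideal.span (Set.range f)) :
    ∀ (n : ℕ) (w : R), a * w ∈ Ideal.span (Set.range f) ^ n → w ∈ Ideal.span (Set.range f) ^ n := by
  intro n
  induction n with
  | zero => intro w _; simp
  | succ n ih =>
    intro w hw
    obtain ⟨P, hP, rfl⟩ := H06QR.exists_homogeneous f (ih w (Ideal.pow_le_pow_right n.le_succ hw))
    rw [pow_succ']
    refine H06QR.Regular.eval_mem_mul f hP fun d => ha _ ?_
    have h := hf n (MvPolynomial.C a * P) (hP.C_mul a) (by rwa [map_mul, MvPolynomial.eval_C]) d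
    rwa [MvPolynomial.coeff_C_mul] at h

theorem span_range_get {R : Type u} [CommRing R] (rs : List R) :
    Ideal.span (Set.range rs.get) = Ideal.ofList rs := by
  congr 1
  ext y
  simp [List.mem_iff_get, eq_comm]

variable {R : Type u} [CommRing R] [IsLocalRing R] [IsNoetherianRing R]

/-- If `R ⧸ P` is normal of dimension at least two and `P` is generated by a regular sequence, the
quotients by powers of `P` have depth at least two. -/
theorem exists_pair (rs : List R) (hrs : IsWeaklyRegular R rs)
    (hmem : ∀ a ∈ rs, a ∈ IsLocalRing.maximalIdeal R)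
    [IsDomain (R ⧸ Ideal.ofList rs)] [IsIntegrallyClosed (R ⧸ Ideal.ofList rs)]
    (hdim : (2 : WithBot ℕ∞) ≤ ringKrullDim (R ⧸ Ideal.ofList rs)) (m : ℕ) :
    ∃ x ∈ IsLocalRing.maximalIdeal R, ∃ y ∈ IsLocalRing.maximalIdeal R,
      (∀ w, x * w ∈ Ideal.ofList rs ^ m → w ∈ Ideal.ofList rs ^ m) ∧
        ∀ w v, y * w - x * v ∈ Ideal.ofList rs ^ m → ∃ v', w - x * v' ∈ Ideal.ofList rs ^ m := by
  have hI : Ideal.ofList rs ≤ IsLocalRing.maximalIdeal R := Ideal.span_le.mpr hmem
  let P := Ideal.ofList rs
  haveI : IsLocalRing (R ⧸ P) := .of_surjective' _ Ideal.Quotient.mk_surjective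
  have hmax : ∀ a : R, Ideal.Quotient.mk P a ∈ IsLocalRing.maximalIdeal (R ⧸ P) → a ∈ IsLocalRing.maximalIdeal R := by
    intro a ha h
    exact ha (h.map _)
  obtain ⟨x', hx', y', hy', hxr, hxy⟩ := H24Def.exists_regular_pair
    (R := R ⧸ P) (fun p hp => ⟨IsLocalization.isDomain_localization p.primeCompl_le_nonZeroDivisors, isIntegrallyClosed_of_isLocalization _ p.primeCompl p.primeCompl_le_nonZeroDivisors⟩) (IsLocalRing.maximalIdeal (R ⧸ P)) (by
      intro p hp hle
      obtain rfl : p = IsLocalRing.maximalIdeal (R ⧸ P) :=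
        le_antisymm (IsLocalRing.le_maximalIdeal hp.ne_top) hle
      rw [← IsLocalRing.maximalIdeal_height_eq_ringKrullDim (R := R ⧸ P)] at hdim
      exact WithBot.coe_le_coe.mp hdim)
  obtain ⟨x, rfl⟩ := Ideal.Quotient.mk_surjective x'
  obtain ⟨y, rfl⟩ := Ideal.Quotient.mk_surjective y'
  refine ⟨x, hmax x hx', y, hmax y hy', ?_, ?_⟩
  · intro w hw
    have hq : CAlgX.IsQuasiRegular rs.get :=
      H06QR.Regular.isQuasiRegular_of_isWeaklyRegular rs.get (by rwa [List.ofFn_get])
    rw [← span_range_get rs] at hw ⊢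
    refine mem_pow_of_mul_mem rs.get hq x (fun w hw => ?_) m w hw
    rw [span_range_get] at hw ⊢
    rw [← Ideal.Quotient.eq_zero_iff_mem] at hw ⊢
    rw [map_mul] at hw
    exact hxr.left.mul_left_eq_zero_iff.mp hw
  · intro w v hwv
    have h1 : IsWeaklyRegular R (rs ++ [x]) := by
      rw [isWeaklyRegular_append_iff, isWeaklyRegular_singleton_iff]
      refine ⟨hrs, (isSMulRegular_quotient_iff_mem_of_smul_mem _ x).mpr fun z hz => ?_⟩
      simp only [smul_eq_mul, Ideal.smul_eq_mul, Ideal.mul_top] at hz ⊢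
      rw [← Ideal.Quotient.eq_zero_iff_mem] at hz ⊢
      rw [map_mul] at hz
      exact hxr.left.mul_left_eq_zero_iff.mp hz
    have h2 : IsWeaklyRegular R (x :: rs) :=
      IsLocalRing.isWeaklyRegular_of_perm_of_subset_maximalIdeal h1 (List.perm_append_singleton x rs)
        (fun a ha => by
          rcases List.mem_append.mp ha with h | h
          · exact hmem a h
          · rw [List.mem_singleton.mp h]; exact hmax x hx')
    rw [isWeaklyRegular_cons_iff] at h2
    let Q := R ⧸ Ideal.span {x}
    let π := Ideal.Quotient.mk (Ideal.span {x})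
    let e : QuotSMulTop x R ≃ₗ[R] Q :=
      Submodule.quotEquivOfEq _ _ (by
        ext z
        simp [Submodule.mem_smul_pointwise_iff_exists, Ideal.mem_span_singleton', mul_comm x])
    have h3 : IsWeaklyRegular Q (rs.map π) :=
      (isWeaklyRegular_map_algebraMap_iff Q Q rs).mpr ((e.isWeaklyRegular_congr rs).mp h2.2)
    have hq : CAlgX.IsQuasiRegular (rs.map π).get :=
      H06QR.Regular.isQuasiRegular_of_isWeaklyRegular _ (by rwa [List.ofFn_get])
    have hmap : Ideal.span (Set.range (rs.map π).get) = P.map π := by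
      rw [span_range_get, Ideal.map_ofList]
    have hy1 : π y * π w ∈ Ideal.span (Set.range (rs.map π).get) ^ m := by
      rw [hmap, ← Ideal.map_pow, ← map_mul]
      refine (Ideal.mem_map_iff_of_surjective π Ideal.Quotient.mk_surjective).mpr ⟨y * w - x * v, hwv, ?_⟩
      rw [map_sub, map_mul π x v, show π x = 0 from Ideal.Quotient.eq_zero_iff_mem.mpr (Ideal.mem_span_singleton_self x), zero_mul, sub_zero]
    have h4 := mem_pow_of_mul_mem _ hq (π y) (fun w' hw' => by
      rw [hmap] at hw' ⊢
      obtain ⟨z, rfl⟩ := Ideal.Quotient.mk_surjective w'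
      rw [← map_mul, ← Ideal.mem_comap, Ideal.comap_map_of_surjective π Ideal.Quotient.mk_surjective] at hw'
      rw [← Ideal.mem_comap, Ideal.comap_map_of_surjective π Ideal.Quotient.mk_surjective]
      have hker : Ideal.comap π (⊥ : Ideal Q) = Ideal.span {x} := Ideal.mk_ker
      rw [hker] at hw' ⊢
      obtain ⟨a, ha, b, hb, hab⟩ := Submodule.mem_sup.mp hw'
      obtain ⟨c, rfl⟩ := Ideal.mem_span_singleton'.mp hb
      have : Ideal.Quotient.mk P x ∣ Ideal.Quotient.mk P y * Ideal.Quotient.mk P z :=
        ⟨Ideal.Quotient.mk P c, by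
          rw [← map_mul, ← map_mul, Ideal.Quotient.eq, ← hab]
          convert ha using 1; ring⟩
      obtain ⟨d', hd⟩ := hxy _ this
      obtain ⟨d, rfl⟩ := Ideal.Quotient.mk_surjective d'
      rw [← map_mul, Ideal.Quotient.eq] at hd
      exact Submodule.mem_sup.mpr ⟨z - x * d, hd, x * d,
        Ideal.mem_span_singleton'.mpr ⟨d, mul_comm _ _⟩, sub_add_cancel _ _⟩) m (π w) hy1
    rw [hmap, ← Ideal.map_pow] at h4
    obtain ⟨a, ha, hab⟩ := (Ideal.mem_map_iff_of_surjective π Ideal.Quotient.mk_surjective).mp h4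
    obtain ⟨c, hc⟩ := Ideal.mem_span_singleton'.mp (Ideal.Quotient.eq.mp hab)
    refine ⟨-c, ?_⟩
    have : w - x * -c = a := by linear_combination hc
    rw [this]
    exact ha

end Groth.Agent.H06LefSec
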